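import Cfsg.Agent.FusionAllNormal.Aut

/-!
# An abelian side with an abelian partner

When two sides are abelian their intersection is the centre and the commutator subgroup has order
`p`. The centre contains one line outside the commutator subgroup fixed by all automisers.
-/

set_option autoImplicit false

namespace CfsgLib.FusionAllNormal

open CfsgLib.FusionTwoEssentials
open scoped commutatorElement

variable {G : Type*} [Group G]

/-- Two conjugations fixing hyperplanes pointwise: the invariant part of the centre. -/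
def lineOf {p : ℕ} {B : Subgroup (MulAut G)} (s : Side p B) (α : MulAut s.E) : Subgroup G :=
  Subgroup.center G ⊓ ((((Subgroup.center G).subgroupOf s.E).map α.toMonoidHom).map s.E.subtype)

theorem mem_lineOf {p : ℕ} {B : Subgroup (MulAut G)} {s : Side p B} {α : MulAut s.E} {x : G} :
    x ∈ lineOf s α ↔ x ∈ Subgroup.center G ∧
      ∃ hx : x ∈ s.E, ((α⁻¹ ⟨x, hx⟩ : s.E) : G) ∈ Subgroup.center G := by
  constructor
  · rintro ⟨h1, y, ⟨z, hz, rfl⟩, rfl⟩
    exact ⟨h1, (α z).2, by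
      show ((α⁻¹ (α z) : s.E) : G) ∈ Subgroup.center G
      rw [MulAut.inv_apply_self]; exact hz⟩
  · rintro ⟨h1, hx, h2⟩
    exact ⟨h1, ⟨x, hx⟩, ⟨α⁻¹ ⟨x, hx⟩, h2, MulAut.apply_inv_self _ _ _⟩, rfl⟩

variable [Finite G] {p : ℕ} [hp : Fact p.Prime]

/-- Over a subgroup of index `p` one further element generates. -/
theorem exists_decomp {M N : Subgroup G} [M.Normal] {y : G} (hMN : M ≤ N) (hy : y ∈ N)
    (hyM : y ∉ M) (hyp : y ^ p ∈ M) (hidx : M.relIndex N = p) :
    ∀ x ∈ N, ∃ m ∈ M, ∃ j : ℕ, x = m * y ^ j := by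
  intro x hx
  have h := Subgroup.relIndex_mul_relIndex M _ N le_sup_left
    (sup_le hMN (Subgroup.zpowers_le.2 hy))
  rw [relIndex_sup_zpowers hyp hyM, hidx] at h
  obtain ⟨m, hm, w, hw, rfl⟩ := Subgroup.mem_sup_of_normal_left.1
    (Subgroup.relIndex_eq_one.1 ((Nat.mul_eq_left hp.out.ne_zero).1 h) hx)
  obtain ⟨j, hj⟩ := mem_powers_iff_mem_zpowers.2 hw
  simp only at hj
  exact ⟨m, hm, j, by rw [hj]⟩

section Torus

variable {B : Subgroup (MulAut G)} (s : Side p B) (hG : IsPGroup p G) (hp2 : p ≠ 2)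
  (hab : ∀ x ∈ s.E, ∀ y ∈ s.E, x * y = y * x) (hZs : Subgroup.center G ≤ s.E)
  (hidx : (Subgroup.center G).relIndex s.E = p) {f : G} (hf1 : f ≠ 1) (hfp : f ^ p = 1)
  (hfc : f ∈ Subgroup.center G) (hcomm : ∀ g h : G, ⁅g, h⁆ ∈ Subgroup.zpowers f)

omit hp [Finite G] in
include hab in
/-- An element outside a side fixes only central elements of it. -/
theorem mem_center_of_commute [Fact p.Prime] {u : G} (hu : u ∉ s.E) {x : G} (hx : x ∈ s.E)
    (h : Commute u x) : x ∈ Subgroup.center G := by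
  refine Subgroup.mem_center_iff.2 fun g => ?_
  obtain ⟨n, e, he, rfl⟩ := s.exists_pow_mul hu g
  exact ((h.pow_left n).mul_left (hab e he x hx)).eq

include hG hab hZs hidx in
/-- Some automorphism moves the centre. -/
theorem exists_moving (hcomm : ∀ g h : G, ⁅g, h⁆ ∈ Subgroup.center G) :
    ∃ α ∈ s.A, ∃ d : s.E, (d : G) ∈ Subgroup.center G ∧ (α d : G) ∉ Subgroup.center G := by
  by_contra hall
  push Not at hall
  obtain ⟨u, hu⟩ := s.exists_not_mem
  obtain ⟨α, hα, g, hg⟩ := s.moved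
  refine hg (s.eq_of_pgroup hG hu hα
    (s.closure_pgroup hG ⊥ (Subgroup.center G) (S := {s.cj u, α * s.cj u * α⁻¹}) ?_) g)
  have hbot : ∀ γ : MulAut s.E, Pres γ ⊥ := fun γ x hx => by
    rw [show x = 1 from Subtype.ext (Subgroup.mem_bot.1 hx), map_one]; exact one_mem _
  have htb : ∀ γ : MulAut s.E, Triv γ ⊥ ⊥ := fun γ x hx => by
    rw [show x = 1 from Subtype.ext (Subgroup.mem_bot.1 hx), map_one, Subgroup.coe_one, inv_one,
      one_mul]
    exact one_mem _
  have hu1 : ∀ x : s.E, (x : G) ∈ Subgroup.center G → s.cj u x = x := fun x hx =>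
    Subtype.ext (by rw [s.cj_apply, Subgroup.mem_center_iff.1 hx u, mul_inv_cancel_right])
  have hu2 : ∀ x : s.E, (x : G)⁻¹ * (s.cj u x : G) ∈ Subgroup.center G := fun x => by
    rw [s.cj_apply, conj_eq_comm_mul]
    have h1 := (inferInstance : (Subgroup.center G).Normal).conj_mem _ (hcomm u x) (x : G)⁻¹
    simpa [mul_assoc] using h1
  have hw1 : ∀ x : s.E, (x : G) ∈ Subgroup.center G → (α * s.cj u * α⁻¹) x = x := fun x hx => by
    rw [MulAut.mul_apply, MulAut.mul_apply, hu1 _ (hall _ (s.A.inv_mem hα) x hx),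
      MulAut.apply_inv_self]
  rintro γ (rfl | rfl)
  · exact ⟨hbot _, fun x hx => by rw [hu1 x hx]; exact hx, htb _,
      fun x hx => by rw [hu1 x hx, inv_mul_cancel]; exact one_mem _, fun x _ => hu2 x⟩
  · refine ⟨hbot _, fun x hx => by rw [hw1 x hx]; exact hx, htb _,
      fun x hx => by rw [hw1 x hx, inv_mul_cancel]; exact one_mem _, fun x _ => ?_⟩
    obtain ⟨y, rfl⟩ := α.surjective x
    rw [MulAut.mul_apply, MulAut.mul_apply, MulAut.inv_apply_self]
    have h := hall α hα (y⁻¹ * s.cj u y) (hu2 y)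
    rwa [map_mul, map_inv] at h

include hG hp2 hab hZs hidx hf1 hfp hfc hcomm in
/-- The torus of an automorphism moving the centre. -/
theorem exists_line {α : MulAut s.E} (hα : α ∈ s.A) {d : s.E} (hd : (d : G) ∈ Subgroup.center G)
    (hαd : (α d : G) ∉ Subgroup.center G) :
    (∀ x ∈ Subgroup.center G, ∃ c ∈ lineOf s α, ∃ j : ℕ, x = c * f ^ j) ∧ f ∉ lineOf s α ∧
      ∃ β ∈ B, (∀ c ∈ lineOf s α, β c = c) ∧ f * β f ∈ lineOf s α := by
  have := s.finite_aut
  have hfs : f ∈ s.E := hZs hfc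
  set Z := Subgroup.center G with hZ
  set C := lineOf s α with hC
  have hCZ : C ≤ Z := fun x hx => (mem_lineOf.1 hx).1
  haveI hCn : C.Normal := ⟨fun x hx g => by
    rw [Subgroup.mem_center_iff.1 (hCZ hx) g, mul_inv_cancel_right]; exact hx⟩
  have hCs : C ≤ s.E := hCZ.trans hZs
  have hCα : ∀ x : s.E, (x : G) ∈ C → (α⁻¹ x : G) ∈ Z := fun x hx => by
    obtain ⟨hxm, h⟩ := (mem_lineOf.1 hx).2
    exact h
  have hCmem : ∀ x : s.E, (x : G) ∈ Z → (α⁻¹ x : G) ∈ Z → (x : G) ∈ C :=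
    fun x h1 h2 => mem_lineOf.2 ⟨h1, x.2, h2⟩
  obtain ⟨u, hu⟩ := s.exists_not_mem
  set w := α * s.cj u * α⁻¹ with hw
  have hu1 : ∀ x : s.E, (x : G) ∈ Z → s.cj u x = x := fun x hx =>
    Subtype.ext (by rw [s.cj_apply, Subgroup.mem_center_iff.1 hx u, mul_inv_cancel_right])
  have hw1 : ∀ x : s.E, (α⁻¹ x : G) ∈ Z → w x = x := fun x hx => by
    rw [hw, MulAut.mul_apply, MulAut.mul_apply, hu1 _ hx, MulAut.apply_inv_self]
  have hu2 : ∀ x : s.E, ((x⁻¹ * s.cj u x : s.E) : G) ∈ Subgroup.zpowers f := fun x => by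
    have hc' := hcomm u x
    rw [Subgroup.coe_mul, Subgroup.coe_inv, s.cj_apply, conj_eq_comm_mul,
      ← Subgroup.mem_center_iff.1 (Subgroup.zpowers_le.2 hfc hc') (x : G), inv_mul_cancel_left]
    exact hc'
  have hw2 : ∀ x : s.E, ∃ y : s.E, (y : G) ∈ Subgroup.zpowers f ∧ x⁻¹ * w x = α y := fun x => by
    obtain ⟨y, rfl⟩ := α.surjective x
    refine ⟨_, hu2 y, ?_⟩
    rw [hw, MulAut.mul_apply, MulAut.mul_apply, MulAut.inv_apply_self, map_mul, map_inv]
  -- the two conjugations do not generate a p-group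
  have hnpJ : ¬ IsPGroup p (Subgroup.closure {s.cj u, w}) := by
    intro hJ
    obtain ⟨g, hg⟩ := s.eq_of_pgroup hG hu hα hJ u
    have hgw : ∀ x : s.E, (w x : G) = g * x * g⁻¹ := fun x => by
      rw [show w = s.cj g from hg.symm, s.cj_apply]
    have hfix : Commute g (α d : G) := by
      have h1 := hgw (α d)
      rw [hw1 (α d) (by rw [MulAut.inv_apply_self]; exact hd)] at h1
      exact (mul_inv_eq_iff_eq_mul.1 h1.symm)
    by_cases hgs : g ∈ s.E
    · have hone : ∀ x : s.E, s.cj u x = x := fun x => by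
        have h1 : w (α x) = α x := Subtype.ext (by
          rw [hgw, hab g hgs _ (α x).2, mul_inv_cancel_right])
        rw [hw, MulAut.mul_apply, MulAut.mul_apply, MulAut.inv_apply_self] at h1
        exact α.injective h1
      have h2 := congrArg Subtype.val (hone (α d))
      rw [s.cj_apply] at h2
      exact hαd (mem_center_of_commute s hab hu (α d).2 (mul_inv_eq_iff_eq_mul.1 h2))
    · exact hαd (mem_center_of_commute s hab hgs (α d).2 hfix)
  -- the commutator lies outside the line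
  have hfC : f ∉ C := by
    intro hf
    set αZ : Subgroup G := ((Z.subgroupOf s.E).map α.toMonoidHom).map s.E.subtype with hαZ
    have hmem : ∀ x : s.E, (x : G) ∈ αZ ↔ (α⁻¹ x : G) ∈ Z := by
      intro x
      constructor
      · rintro ⟨_, ⟨y, hy, rfl⟩, hyx⟩
        rw [show x = α y from Subtype.ext hyx.symm, MulAut.inv_apply_self]
        exact hy
      · exact fun h => ⟨x, ⟨α⁻¹ x, h, MulAut.apply_inv_self _ _ _⟩, rfl⟩
    have hfαZ : Subgroup.zpowers f ≤ αZ := Subgroup.zpowers_le.2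
      ((hmem ⟨f, hfs⟩).2 (hCα ⟨f, hfs⟩ hf))
    have hfCle : Subgroup.zpowers f ≤ C := Subgroup.zpowers_le.2 hf
    refine hnpJ (s.closure_pgroup hG C αZ ?_)
    rintro γ (rfl | rfl)
    · refine ⟨fun x hx => by rw [hu1 x (hCZ hx)]; exact hx, fun x hx => ?_,
        fun x hx => by rw [hu1 x (hCZ hx), inv_mul_cancel]; exact one_mem _,
        fun x _ => hfCle (hu2 x), fun x _ => hfαZ (hu2 x)⟩
      simpa using αZ.mul_mem hx (hfαZ (hu2 x))
    · refine ⟨fun x hx => by rw [hw1 x (hCα x hx)]; exact hx,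
        fun x hx => by rw [hw1 x ((hmem x).1 hx)]; exact hx,
        fun x hx => by rw [hw1 x (hCα x hx), inv_mul_cancel]; exact one_mem _,
        fun x hx => by rw [hw1 x ((hmem x).1 hx), inv_mul_cancel]; exact one_mem _, fun x _ => ?_⟩
      obtain ⟨y, hy, hxy⟩ := hw2 x
      rw [← Subgroup.coe_inv, ← Subgroup.coe_mul, hxy]
      exact (hmem _).2 (by rw [MulAut.inv_apply_self]; exact Subgroup.zpowers_le.2 hfc hy)
  -- its image lies outside the centre
  set f' : s.E := α ⟨f, hfs⟩ with hf'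
  have hf'Z : (f' : G) ∉ Z := by
    intro hf
    have hf'C : (f' : G) ∈ C := hCmem f' hf (by rw [hf', MulAut.inv_apply_self]; exact hfc)
    have hle : ∀ y : s.E, (y : G) ∈ Subgroup.zpowers f → (α y : G) ∈ C := fun y hy => by
      obtain ⟨i, hi⟩ := hy
      rw [show y = (⟨f, hfs⟩ : s.E) ^ i from Subtype.ext (by rw [Subgroup.coe_zpow]; exact hi.symm),
        map_zpow, Subgroup.coe_zpow]
      exact C.zpow_mem hf'C i
    refine hnpJ (s.closure_pgroup hG C Z ?_)
    rintro γ (rfl | rfl)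
    · exact ⟨fun x hx => by rw [hu1 x (hCZ hx)]; exact hx, fun x hx => by rw [hu1 x hx]; exact hx,
        fun x hx => by rw [hu1 x (hCZ hx), inv_mul_cancel]; exact one_mem _,
        fun x hx => by rw [hu1 x hx, inv_mul_cancel]; exact one_mem _,
        fun x _ => by
          rw [← Subgroup.coe_inv, ← Subgroup.coe_mul]
          exact Subgroup.zpowers_le.2 hfc (hu2 x)⟩
    · have hd' : ∀ x : s.E, (x : G)⁻¹ * (w x : G) ∈ C := fun x => by
        obtain ⟨y, hy, hxy⟩ := hw2 x
        rw [← Subgroup.coe_inv, ← Subgroup.coe_mul, hxy]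
        exact hle y hy
      exact ⟨fun x hx => by rw [hw1 x (hCα x hx)]; exact hx,
        fun x hx => by simpa using Z.mul_mem hx (hCZ (hd' x)),
        fun x hx => by rw [hw1 x (hCα x hx), inv_mul_cancel]; exact one_mem _,
        fun x _ => hd' x, fun x _ => hCZ (hd' x)⟩
  -- indices
  have hCidx : C.relIndex Z = p := by
    refine le_antisymm ?_ (le_relIndex_of_lt hG fun h => hfC (h hfc))
    rw [hC, lineOf, Subgroup.inf_relIndex_left]
    have h1 : ((((Subgroup.center G).subgroupOf s.E).map α.toMonoidHom).map s.E.subtype).relIndex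
        s.E = p := by
      rw [Subgroup.relIndex, Subgroup.subgroupOf, Subgroup.comap_map_eq_self_of_injective
        s.E.subtype_injective, Subgroup.index_map_of_bijective α.bijective]
      exact hidx
    exact (Subgroup.relIndex_le_of_le_right hZs (by rw [h1]; exact hp.out.ne_zero)).trans h1.le
  have hdecZ : ∀ x ∈ Z, ∃ c ∈ C, ∃ j : ℕ, x = c * f ^ j :=
    exists_decomp hCZ hfc hfC (by rw [hfp]; exact one_mem _) hCidx
  have hf'p : (f' : G) ^ p = 1 := by
    rw [hf', ← Subgroup.coe_pow, ← map_pow,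
      show (⟨f, hfs⟩ : s.E) ^ p = 1 from Subtype.ext (by rw [Subgroup.coe_pow]; exact hfp), map_one]
    rfl
  have hdec : ∀ x ∈ s.E, ∃ z ∈ Z, ∃ i : ℕ, x = z * (f' : G) ^ i :=
    exists_decomp hZs f'.2 hf'Z (by rw [hf'p]; exact one_mem _) hidx
  have hpow : ∀ x ∈ s.E, x ^ p ∈ C := by
    intro x hx
    obtain ⟨z, hz, i, rfl⟩ := hdec x hx
    obtain ⟨c, hc, j, rfl⟩ := hdecZ z hz
    rw [(show Commute (c * f ^ j) ((f' : G) ^ i) from
        hab _ (hZs (Z.mul_mem (hCZ hc) (Z.pow_mem hfc j))) _ (s.E.pow_mem f'.2 i)).mul_pow,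
      (show Commute c (f ^ j) from hab _ (hCs hc) _ (s.E.pow_mem hfs j)).mul_pow, ← pow_mul,
      ← pow_mul, mul_comm j, mul_comm i, pow_mul, pow_mul, hfp, hf'p, one_pow, one_pow, mul_one,
      mul_one]
    exact C.pow_mem hc p
  have hab' : ∀ x ∈ s.E, ∀ y ∈ s.E, ⁅x, y⁆ ∈ C := fun x hx y hy => by
    rw [commutatorElement_eq_one_iff_mul_comm.2 (hab x hx y hy)]; exact one_mem _
  have hCsq : C.relIndex s.E = p ^ 2 := by
    rw [← Subgroup.relIndex_mul_relIndex C Z s.E hCZ hZs, hCidx, hidx, pow_two]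
  have hnp : ¬ IsPGroup p (s.pair u α) := fun h => hnpJ (h.to_le ((Subgroup.closure_le _).2 (by
    rintro x (rfl | rfl)
    exacts [s.cj_mem_pair u α u, s.conj_mem_pair u α])))
  have hfix : ∀ γ ∈ s.pair u α, ∀ x : s.E, (x : G) ∈ C → γ x = x := by
    intro γ hγ x hx
    have hle : s.pair u α ≤ MulAction.stabilizer (MulAut s.E) x := by
      refine s.pair_induction hu (hu1 x (hCZ hx)) (fun e he => ?_) (hw1 x (hCα x hx))
      show s.cj e x = x
      exact Subtype.ext (by rw [s.cj_apply, hab e he x x.2, mul_inv_cancel_right])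
    exact hle hγ
  obtain ⟨β, hβ, γ, hγ, hβγ, -, -, hβC⟩ := s.exists_inverting hG hp2 le_rfl hCs hCsq hab' hpow
    hab' hu hα (fun δ hδ x hx => by rw [hfix δ hδ x hx]; exact hx) (fun δ _ y _ => (δ y).2)
    (fun hall => s.not_all_fixed hnp fun δ hδ hco =>
      fix_step hG hco (fun x hx => hfix δ hδ x hx) (hall δ hδ hco))
  refine ⟨hdecZ, hfC, β, hβ, fun c hc => ?_, hβC f hfs⟩
  rw [hβγ ⟨c, hCs hc⟩, hfix γ hγ ⟨c, hCs hc⟩ hc]

end Torus

end CfsgLib.FusionAllNormal
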