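import Cfsg.Agent.FusionTwoEssentials.Final
import Cfsg.Agent.FusionTwoEssentials.Natural
import Cfsg.Agent.FusionRankThree.Transport

/-!
# Essential subgroups normal in `S`, as sides

An essential subgroup normal in `S` gives a side over the automorphisms of `S` stabilising it.
Automorphisms of `S` act on a section centralised by `S` as a group of order prime to `p`.
-/

set_option autoImplicit false
set_option linter.style.haveILetI false

namespace CfsgLib.FusionAllNormal

open Cfsg Cfsg.FusionSystem CfsgLib.Fusion CfsgLib.FusionTwoEssentials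
open scoped commutatorElement

variable {Ω : Type*} [Group Ω] {S : Subgroup Ω} {p : ℕ}

/-- All essential subgroups are normal in `S`. -/
def AllNormal (F : FusionSystem S) (p : ℕ) : Prop :=
  ∀ P : Subgroup Ω, F.IsEssential p P → (P.subgroupOf S).Normal

/-- An essential subgroup together with its side. -/
structure NSide (F : FusionSystem S) (p : ℕ) where
  P : Subgroup Ω
  ess : F.IsEssential p P
  s : Side p (stabIn F (P.subgroupOf S))
  hs : s.E = P.subgroupOf S
  trans : ∀ T : Subgroup S,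
    (∀ α ∈ s.A, ∀ x : s.E, (x : S) ∈ T → (α x : S) ∈ T) →
      ∀ α ∈ F.autGroup P, ∀ (x : P) (hx : (x : Ω) ∈ S) (hy : (α x : Ω) ∈ S),
        (⟨x, hx⟩ : S) ∈ T → (⟨α x, hy⟩ : S) ∈ T

variable [Finite S] [hp : Fact p.Prime] {F : FusionSystem S}
  (hp2 : p ≠ 2) (hS : IsPGroup p S) (hF : F.IsSaturated p) (hrk : Rank3 p S)

include hp2 hS hF hrk

theorem exists_nside {P : Subgroup Ω} (hP : F.IsEssential p P) (hn : (P.subgroupOf S).Normal) :
    ∃ n : NSide F p, n.P = P := by
  obtain ⟨s, hs, htr⟩ := exists_side hp2 hS hF hrk hP hn (stabIn F (P.subgroupOf S)) inf_le_left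
    (fun g => mem_stabIn (Inn_le_autGroup le_rfl ⟨g, rfl⟩) fun x hx => hn.conj_mem x hx g)
    (fun β hβ x hx => (hβ.2 x).2 hx) (fun β hβ h => mem_stabIn hβ h)
  exact ⟨⟨P, hP, s, hs, htr⟩, rfl⟩

/-- No nontrivial subgroup is invariant under all the automisers, checked on one chosen side for
each essential subgroup. -/
theorem false_of_choice (hO : F.core = ⊥) {T : Subgroup S} (hT1 : T ≠ ⊥)
    (hch : ∀ P : Subgroup Ω, F.IsEssential p P →
      ∃ k : NSide F p, k.P = P ∧ T ≤ k.s.E ∧ ∀ α ∈ k.s.A, Pres α T)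
    (haut : ∀ h ∈ F.autGroup S, ∀ x ∈ T, h x ∈ T) : False := by
  have hTn : T.Normal := ⟨fun x hx g => haut (MulAut.conj g) (Inn_le_autGroup le_rfl ⟨g, rfl⟩) x hx⟩
  refine false_of_invariant hS hF hO hT1 hTn (fun P hP x hx => ?_) fun P hP => ?_
  · obtain ⟨k, rfl, hle, -⟩ := hch P hP
    have h := hle hx
    rw [k.hs] at h
    exact h
  · rcases hP with rfl | hP
    · exact fun α hα x _ _ h => haut α hα x h
    · obtain ⟨k, rfl, -, hinv⟩ := hch P hP
      exact k.trans T fun α hα x hx => hinv α hα x hx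

/-- No nontrivial subgroup is invariant under all the automisers. -/
theorem false_of_char (hO : F.core = ⊥) (hall : AllNormal F p) {T : Subgroup S} (hT1 : T ≠ ⊥)
    (hle : ∀ n : NSide F p, T ≤ n.s.E) (hside : ∀ n : NSide F p, ∀ α ∈ n.s.A, Pres α T)
    (haut : ∀ h ∈ F.autGroup S, ∀ x ∈ T, h x ∈ T) : False :=
  false_of_choice hp2 hS hF hrk hO hT1 (fun P hP => by
    obtain ⟨k, hk⟩ := exists_nside hp2 hS hF hrk hP (hall P hP)
    exact ⟨k, hk, hle k, hside k⟩) haut

/-- The image of a side under an automorphism of `S` in the system is a side. -/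
theorem exists_image (hall : AllNormal F p) (n : NSide F p) {h : MulAut S}
    (hh : h ∈ F.autGroup S) : ∃ m : NSide F p, m.s.E = n.s.E.map h.toMonoidHom := by
  have hPS : n.P ≤ S := n.ess.1.1
  have hI : IsIso F h := (mem_autGroup_iff le_rfl).1 hh
  set φ := S.subtype.comp h.toMonoidHom with hφ
  obtain ⟨e, he, -⟩ := exists_iso_restrict (φ := φ) hI hPS
  have hP' : imgHom φ n.P ≤ S := le_of_isConj_right he.isConj
  have hmap : (imgHom φ n.P).subgroupOf S = (n.P.subgroupOf S).map h.toMonoidHom := by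
    ext x
    rw [Subgroup.mem_subgroupOf, mem_imgHom]
    constructor
    · rintro ⟨w, hw, hwx⟩
      exact ⟨w, hw, Subtype.ext hwx⟩
    · rintro ⟨w, hw, rfl⟩
      exact ⟨w, hw, rfl⟩
  have hn : ((imgHom φ n.P).subgroupOf S).Normal := by
    rw [hmap]
    exact Subgroup.Normal.map (n.hs ▸ n.s.normal) _ h.surjective
  have hful : F.IsFullyNormalized (imgHom φ n.P) := ⟨hP', fun Q _ => by
    rw [normalizerIn_eq hP' hn]
    exact Subgroup.card_le_of_le (normalizerIn_le S Q)⟩
  obtain ⟨m, hm⟩ := exists_nside hp2 hS hF hrk (FusionRankThree.isEssential_of_iso he n.ess hful) hn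
  exact ⟨m, by rw [m.hs, n.hs, hm, hmap]⟩

omit hp2 hrk in
/-- A normal subgroup of `Aut_F(S)` containing the inner automorphisms contains every element of
which it contains the `p`-th power. -/
theorem mem_of_pow_mem {L : Subgroup (MulAut S)} (hInn : ∀ g : S, MulAut.conj g ∈ L)
    (hnorm : ∀ a ∈ F.autGroup S, ∀ l ∈ L, a * l * a⁻¹ ∈ L) {κ : MulAut S}
    (hκ : κ ∈ F.autGroup S) (h : κ ^ p ∈ L) : κ ∈ L := by
  haveI : Finite (MulAut S) := Finite.of_injective (fun φ => (φ : S → S)) DFunLike.coe_injective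
  obtain ⟨R, hR⟩ := (automized_receptive hS hF isFullyNormalized_self).1.2
  set N := L.subgroupOf (F.autGroup S) with hN
  haveI : N.Normal := ⟨fun x hx g => hnorm g g.2 x hx⟩
  have hRN : (R : Subgroup (F.autGroup S)) ≤ N := by
    intro x hx
    rw [hR] at hx
    obtain ⟨g, hg, -, hgx⟩ := mem_autInducedBy_iff.1 (Subgroup.mem_subgroupOf.1 hx)
    rw [hN, Subgroup.mem_subgroupOf,
      show (x : MulAut S) = MulAut.conj ⟨g, hg⟩ from MulEquiv.ext fun y => Subtype.ext (hgx y)]
    exact hInn _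
  have hnd : ¬ p ∣ N.index := fun hd => R.not_dvd_index (hd.trans (Subgroup.index_dvd_of_le hRN))
  set q := QuotientGroup.mk' N ⟨κ, hκ⟩
  have hq : q ^ p = 1 := by
    rw [← map_pow]
    exact (QuotientGroup.eq_one_iff _).2 h
  have hq' : q ^ N.index = 1 := by
    rw [Subgroup.index_eq_card]
    exact pow_card_eq_one'
  have h1 := pow_gcd_eq_one.2 ⟨hq, hq'⟩
  rw [(hp.out.coprime_iff_not_dvd.2 hnd).gcd_eq_one, pow_one] at h1
  exact Subgroup.mem_subgroupOf.1 ((QuotientGroup.eq_one_iff _).1 h1)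

omit hp2 hrk in
/-- An automorphism unipotent on a section centralised by `S` is trivial on it. -/
theorem section_trivial {M N : Subgroup S} [hNn : N.Normal]
    (hMinv : ∀ h ∈ F.autGroup S, ∀ x ∈ M, h x ∈ M) (hNinv : ∀ h ∈ F.autGroup S, ∀ x ∈ N, h x ∈ N)
    (hc : ∀ g : S, ∀ x ∈ M, ⁅g, x⁆ ∈ N) {κ : MulAut S} (hκ : κ ∈ F.autGroup S) {Y : Subgroup S}
    (hd : ∀ x ∈ M, x⁻¹ * κ x ∈ Y) (hκY : ∀ y ∈ Y, y⁻¹ * κ y ∈ N) (hYp : ∀ y ∈ Y, y ^ p ∈ N) :
    ∀ x ∈ M, x⁻¹ * κ x ∈ N := by
  let L : Subgroup (MulAut S) :=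
    { carrier := {h | h ∈ F.autGroup S ∧ ∀ x ∈ M, x⁻¹ * h x ∈ N}
      one_mem' := ⟨one_mem _, fun x _ => by rw [MulAut.one_apply, inv_mul_cancel]; exact one_mem _⟩
      mul_mem' := fun {a b} ha hb => ⟨mul_mem ha.1 hb.1, fun x hx => by
        have h1 := N.mul_mem (hb.2 x hx) (ha.2 (b x) (hMinv b hb.1 x hx))
        simpa [mul_assoc] using h1⟩
      inv_mem' := fun {a} ha => ⟨inv_mem ha.1, fun x hx => by
        have h1 := N.inv_mem (ha.2 (a⁻¹ x) (hMinv _ (inv_mem ha.1) x hx))
        rw [MulAut.apply_inv_self] at h1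
        simpa using h1⟩ }
  have hκL : κ ^ p ∈ L := by
    refine ⟨pow_mem hκ p, fun x hx => ?_⟩
    set π := QuotientGroup.mk' N
    have hfix : ∀ y ∈ Y, π (κ y) = π y := fun y hy => (QuotientGroup.eq.2 (hκY y hy)).symm
    have hmem : ∀ a b : S, π a = π b → π (κ a) = π (κ b) := fun a b h => by
      have h1 : a⁻¹ * b ∈ N := QuotientGroup.eq.1 h
      refine QuotientGroup.eq.2 ?_
      rw [← map_inv, ← map_mul]
      exact hNinv κ hκ _ h1
    have hk : ∀ k : ℕ, π ((κ ^ k) x) = π (x * (x⁻¹ * κ x) ^ k) := by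
      intro k
      induction k with
      | zero => simp
      | succ k ih =>
        rw [pow_succ', MulAut.mul_apply, hmem _ _ ih, map_mul κ, map_mul π, map_pow κ, map_pow π,
          hfix _ (hd x hx), ← map_pow π, ← map_mul π, pow_succ', ← mul_assoc x,
          mul_inv_cancel_left]
    refine QuotientGroup.eq.1 ?_
    show π x = π ((κ ^ p) x)
    rw [hk p, map_mul, show π ((x⁻¹ * κ x) ^ p) = 1 from
      (QuotientGroup.eq_one_iff _).2 (hYp _ (hd x hx)), mul_one]
  have h := mem_of_pow_mem hS hF (L := L) (fun g => ⟨Inn_le_autGroup le_rfl ⟨g, rfl⟩, fun x hx => by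
      rw [MulAut.conj_apply, conj_eq_comm_mul]
      have h1 := hNn.conj_mem _ (hc g x hx) x⁻¹
      simpa [mul_assoc] using h1⟩)
    (fun a ha l hl => ⟨mul_mem (mul_mem ha hl.1) (inv_mem ha), fun x hx => by
      have h1 := hNinv a ha _ (hl.2 (a⁻¹ x) (hMinv _ (inv_mem ha) x hx))
      rw [map_mul, map_inv a, MulAut.apply_inv_self] at h1
      rwa [MulAut.mul_apply, MulAut.mul_apply]⟩)
    hκ hκL
  exact h.2

end CfsgLib.FusionAllNormal
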