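import Cfsg.Agent.FusionAllNormal.Aut
import Cfsg.Agent.FusionTwoEssentials.Shape

/-!
# The partner of an invariant abelian essential subgroup in a `Core`
-/

set_option autoImplicit false
set_option linter.style.haveILetI false

namespace CfsgLib.FusionAllNormal

open Cfsg Cfsg.FusionSystem CfsgLib.Fusion CfsgLib.FusionTwoEssentials
open scoped commutatorElement

/-- The first side of a `Core` is abelian or has its centre inside `K`. -/
theorem abelian_or_zc_le {G : Type*} [Group G] [Finite G] {p : ℕ} [hp : Fact p.Prime]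
    {B B' : Subgroup (MulAut G)} {s : Side p B} {t : Side p B'} (c : Core s t) :
    (∀ x ∈ s.E, ∀ y ∈ s.E, x * y = y * x) ∨ zc s.E ≤ c.K := by
  by_cases hrr : Commute c.r c.r'
  · left
    have hmem : ∀ x ∈ s.E, x ∈ Subgroup.closure ((c.K : Set G) ∪ {c.r, c.r'}) := by
      intro x hx
      obtain ⟨n, d, hd, rfl⟩ := s.exists_form t c.r'_mem c.r'_not hx
      obtain ⟨k, hk, j, rfl⟩ := c.gen d hd
      set H := Subgroup.closure ((((c.K) : Subgroup G) : Set G) ∪ {c.r, c.r'})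
      have h1 : c.r' ∈ H := Subgroup.subset_closure (by simp)
      have h2 : c.r ∈ H := Subgroup.subset_closure (by simp)
      have h3 : k ∈ H := Subgroup.subset_closure (Or.inl hk)
      exact H.mul_mem (H.pow_mem h1 n) (H.mul_mem h3 (H.pow_mem h2 j))
    intro x hx y hy
    refine comm_closure ?_ x (hmem x hx) y (hmem y hy)
    rintro a (ha | ha | ha) b (hb | hb | hb)
    · exact c.central b hb a
    · rw [hb]; exact (c.central a ha c.r).symm
    · rw [hb]; exact (c.central a ha c.r').symm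
    · rw [ha]; exact c.central b hb c.r
    · rw [ha, hb]
    · rw [ha, hb]; exact hrr.eq
    · rw [ha]; exact c.central b hb c.r'
    · rw [ha, hb]; exact hrr.eq.symm
    · rw [ha, hb]
  · right
    intro e he
    obtain ⟨n, d, hd, rfl⟩ := s.exists_form t c.r'_mem c.r'_not he.1
    obtain ⟨k, hk, j, rfl⟩ := c.gen d hd
    have hone : ∀ {a b : G} (i : ℕ), a ^ p = 1 → ¬ Commute a b → Commute (a ^ i) b → a ^ i = 1 := by
      intro a b i ha hab h
      by_contra hi
      refine hab ?_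
      have hmem : a ∈ Subgroup.zpowers (a ^ i) := by
        refine mem_zpowers_pow_iff.2 ?_
        rw [orderOf_eq_prime ha fun e => hi (by rw [e, one_pow])]
        exact (hp.out.coprime_iff_not_dvd.2 fun ⟨l, hl⟩ =>
          hi (by rw [hl, pow_mul, ha, one_pow])).symm
      obtain ⟨l, hl⟩ := hmem
      exact hl ▸ h.zpow_left l
    have hkc : ∀ g, Commute k g := fun g => (c.central k hk g).symm
    have hr : Commute (c.r' ^ n * (k * c.r ^ j)) c.r := (he.2 c.r c.r_mem.1).symm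
    have hr' : Commute (c.r' ^ n * (k * c.r ^ j)) c.r' := (he.2 c.r' c.r'_mem).symm
    have h1 : c.r' ^ n = 1 := by
      refine hone n c.r'_pow (fun h => hrr h.symm) ?_
      have h2 : Commute (k * c.r ^ j) c.r := (hkc _).mul_left ((Commute.refl c.r).pow_left j)
      simpa [mul_assoc] using hr.mul_left h2.inv_left
    have h2 : c.r ^ j = 1 := by
      refine hone j c.r_pow hrr ?_
      have h3 : Commute ((c.r' ^ n * k)⁻¹) c.r' :=
        (((Commute.refl c.r').pow_left n).mul_left (hkc _)).inv_left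
      simpa [mul_assoc] using h3.mul_left hr'
    rw [h1, h2, one_mul, mul_one]
    exact hk

variable {Ω : Type*} [Group Ω] {S : Subgroup Ω} [Finite S] {p : ℕ} [hp : Fact p.Prime]
  {F : FusionSystem S} (hp2 : p ≠ 2) (hS : IsPGroup p S) (hF : F.IsSaturated p)

include hp2 hS hF

/-- The partner is invariant when the abelian side is. -/
theorem invariant_of_core {B' : Subgroup (MulAut S)} {m : NSide F p} {t : Side p B'}
    (c : Core m.s t) (ht : ∀ h ∈ F.autGroup S, ∀ x ∈ t.E, h x ∈ t.E) :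
    ∀ h ∈ F.autGroup S, ∀ x ∈ m.s.E, h x ∈ m.s.E := by
  set D := m.s.E ⊓ t.E with hD
  haveI hDn : D.Normal := m.s.inf_normal t
  have hDinv : ∀ h ∈ F.autGroup S, ∀ x ∈ D, h x ∈ D := by
    intro h hh x hx
    obtain ⟨k, hk, j, rfl⟩ := c.gen_f hS x hx
    rw [map_mul, map_pow]
    refine D.mul_mem ⟨m.s.centralizer_le fun y _ => ?_, ht h hh k (c.K_le hk).2⟩ (D.pow_mem ?_ j)
    · rw [← h.apply_symm_apply y, ← map_mul, ← map_mul, c.central k hk]
    · rw [Core.f, map_commutatorElement]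
      have h1 := t.comm_mem_inf m.s hS (h c.r') (ht h hh _ c.u_mem)
      exact ⟨h1.2, h1.1⟩
  obtain ⟨β, hβ, hβK, hβg, hβinv, -⟩ := c.exists_beta hS hp2
  have hβfix : ∀ y ∈ t.E, y⁻¹ * β y ∈ D := fun y hy =>
    ⟨hβg y, t.E.mul_mem (t.E.inv_mem hy) (ht β hβ.1 y hy)⟩
  have hcD : ∀ g x : S, ⁅g, x⁆ ∈ D := by
    intro g x
    obtain ⟨i, e, he, rfl⟩ := m.s.exists_pow_mul c.u_not x
    rw [comm_mul_right]
    refine D.mul_mem ?_ (hDn.conj_mem _ (m.s.comm_mem_inf t hS g he) _)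
    have h1 := t.comm_mem_inf m.s hS g (t.E.pow_mem c.u_mem i)
    exact ⟨h1.2, h1.1⟩
  intro h hh x hx
  set π := QuotientGroup.mk' D
  have hπc : ∀ a b : S, Commute (π a) (π b) := fun a b =>
    commutatorElement_eq_one_iff_mul_comm.1 (by
      rw [← map_commutatorElement]; exact (QuotientGroup.eq_one_iff _).2 (hcD a b))
  set κ := (h * β)⁻¹ * (β * h) with hκ
  have hκA : κ ∈ F.autGroup S := mul_mem (inv_mem (mul_mem hh hβ.1)) (mul_mem hβ.1 hh)
  have hκv : ∀ y, (h * β) (κ y) = β (h y) := fun y => by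
    rw [hκ, ← MulAut.mul_apply, mul_inv_cancel_left]; rfl
  have hhb : h * β ∈ F.autGroup S := mul_mem hh hβ.1
  have hπmem : ∀ {g : MulAut S}, g ∈ F.autGroup S → ∀ {a b : S}, π a = π b → π (g a) = π (g b) := by
    intro g hg a b hab
    refine QuotientGroup.eq.2 ?_
    rw [← map_inv g, ← map_mul]
    exact hDinv g hg _ (QuotientGroup.eq.1 hab)
  have hfixπ : ∀ y ∈ t.E, π (β y) = π y := fun y hy => (QuotientGroup.eq.2 (hβfix y hy)).symm
  have hinvπ : ∀ y ∈ m.s.E, π (β y) = (π y)⁻¹ := fun y hy =>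
    eq_inv_of_mul_eq_one_right (by
      rw [← map_mul]; exact (QuotientGroup.eq_one_iff _).2 (c.K_le (hβinv y hy)))
  -- the image of `x`
  obtain ⟨i, e, he, hxe⟩ := m.s.exists_pow_mul c.u_not (h x)
  have hβhx : π (β (h x)) = π (c.u ^ i) * (π e)⁻¹ := by
    rw [hxe, map_mul, map_mul, hfixπ _ (t.E.pow_mem c.u_mem i), hinvπ e he]
  have hκt : ∀ y ∈ t.E, y⁻¹ * κ y ∈ D := by
    intro y hy
    have h1 : π ((h * β) (κ y)) = π ((h * β) y) := by
      rw [hκv, hfixπ _ (ht h hh y hy), MulAut.mul_apply]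
      exact hπmem hh (hfixπ y hy).symm
    have h2 := hDinv _ (inv_mem hhb) _ (QuotientGroup.eq.1 h1.symm)
    rwa [map_mul, map_inv, MulAut.inv_apply_self, MulAut.inv_apply_self] at h2
  have hd : ∀ y : S, y⁻¹ * κ y ∈ t.E := by
    intro y
    obtain ⟨n, e', he', rfl⟩ := m.s.exists_pow_mul c.u_not y
    obtain ⟨l, e₁, he₁, hl⟩ := m.s.exists_pow_mul c.u_not (h e')
    have h0 : π (h (β e')) = (π (c.u ^ l * e₁))⁻¹ := by
      rw [← hl, ← map_inv π, ← map_inv h]
      refine hπmem hh ?_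
      rw [hinvπ e' he', map_inv]
    have hz : (h * β) (e'⁻¹ * κ e') ∈ t.E := by
      have h1 : π ((h * β) (e'⁻¹ * κ e')) = π (c.u ^ l * c.u ^ l) := by
        rw [map_mul, map_inv, hκv, MulAut.mul_apply, map_mul π, map_inv π, h0, inv_inv, hl, map_mul,
          map_mul, map_mul, hfixπ _ (t.E.pow_mem c.u_mem l), hinvπ e₁ he₁, map_mul π,
          ← mul_assoc, mul_assoc (π (c.u ^ l)) (π e₁), (hπc e₁ _).eq, ← mul_assoc,
          mul_inv_cancel_right]
      have h2 := (QuotientGroup.eq.1 h1.symm : _ ∈ D).2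
      exact (t.E.mul_mem_cancel_left (t.E.inv_mem
        (t.E.mul_mem (t.E.pow_mem c.u_mem l) (t.E.pow_mem c.u_mem l)))).1 h2
    have he'' : e'⁻¹ * κ e' ∈ t.E := by
      have h2 := ht _ (inv_mem hhb) _ hz
      rwa [MulAut.inv_apply_self] at h2
    rw [map_mul, mul_inv_rev, mul_assoc, ← mul_assoc (c.u ^ n)⁻¹,
      show e'⁻¹ * ((c.u ^ n)⁻¹ * κ (c.u ^ n) * κ e') =
        (e'⁻¹ * ((c.u ^ n)⁻¹ * κ (c.u ^ n)) * e') * (e'⁻¹ * κ e') by group]
    refine t.E.mul_mem ?_ he''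
    have h2 := t.normal.conj_mem _ (hκt _ (t.E.pow_mem c.u_mem n)).2 e'⁻¹
    rwa [inv_inv] at h2
  have htriv := section_trivial hS hF (M := ⊤) (N := D) (fun _ _ y _ => Subgroup.mem_top _) hDinv
    (fun g y _ => hcD g y) hκA (Y := t.E) (fun y _ => hd y) hκt
    (fun y _ => m.s.pow_mem_inf t hS y)
  have h1 : π (h (β x)) = π (β (h x)) := by
    rw [← hκv, MulAut.mul_apply]
    exact hπmem hh (hπmem hβ.1 (QuotientGroup.eq.2 (htriv x (Subgroup.mem_top x))))
  have h2 : π (h (β x)) = (π (c.u ^ i) * π e)⁻¹ := by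
    rw [← map_mul, ← hxe, ← map_inv π, ← map_inv h]
    refine hπmem hh ?_
    rw [hinvπ x hx, map_inv]
  rw [h2, hβhx, mul_inv_rev] at h1
  have h3 : π (c.u ^ i) * π (c.u ^ i) = 1 := by
    have h4 : (π e)⁻¹ * (π (c.u ^ i))⁻¹ = (π e)⁻¹ * π (c.u ^ i) :=
      h1.trans ((hπc (c.u ^ i) e).inv_right.eq)
    have h5 := mul_left_cancel h4
    nth_rw 1 [← h5]
    exact inv_mul_cancel _
  rw [← map_mul] at h3
  have h4 : c.u ^ i ∈ D := mem_of_sq_mem hS hp2 ((QuotientGroup.eq_one_iff _).1 h3)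
  rw [hxe]
  exact m.s.E.mul_mem h4.1 he

end CfsgLib.FusionAllNormal
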