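import Cfsg.Agent.FusionAllNormal.TwoAbelian
import Cfsg.Agent.FusionAllNormal.CoreCase

/-!
# If all essential subgroups are normal then two of them are invariant

Some essential subgroup `E` has an automiser moving `Ω₁(Z(S))`. It is unique, hence invariant under
`Aut_F(S)`, and every other one either forms a `Core` with it, and is then invariant, or contains
`Ω₁(Z(E))`, which produces a nontrivial subgroup normal in the system.
-/

set_option autoImplicit false
set_option linter.style.haveILetI false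

namespace CfsgLib.FusionAllNormal

open Cfsg Cfsg.FusionSystem CfsgLib.Fusion CfsgLib.FusionTwoEssentials
open scoped commutatorElement

section Group

variable {G : Type*} [Group G] [Finite G] {p : ℕ} [hp : Fact p.Prime] {B B' : Subgroup (MulAut G)}

/-- A nonabelian side with central commutators preserves `Ω₁(Z(G))`. -/
theorem pres_of_comm (s : Side p B) (hG : IsPGroup p G) (hrk : Rank3 p G)
    (hcomm : ∀ x ∈ s.E, ∀ y ∈ s.E, ⁅x, y⁆ ∈ omegaZ p (⊤ : Subgroup G)) {a : G} (ha : a ∈ s.E)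
    (hap : a ^ p = 1) (haW : a ∉ omegaZ p s.E) :
    ∀ α ∈ s.A, Pres α (omegaZ p (⊤ : Subgroup G)) := by
  set Z := omegaZ p (⊤ : Subgroup G) with hZ
  set W := omegaZ p s.E with hW
  by_cases hWZ : W ≤ Z
  · exact s.pres_of_central hG hWZ le_rfl fun β _ y hy => omegaTop_map hy
  set T := Subgroup.closure {w | ∃ x ∈ s.E, ∃ y ∈ s.E, ⁅x, y⁆ = w}
  have hTZ : T ≤ Z := (Subgroup.closure_le _).2 (by
    rintro _ ⟨x, hx, y, hy, rfl⟩; exact hcomm x hx y hy)
  have hTne : T ≠ ⊥ := fun h => haW ⟨ha, hap, fun e he =>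
    commutatorElement_eq_one_iff_mul_comm.1
      (Subgroup.mem_bot.1 (h ▸ Subgroup.subset_closure ⟨e, he, a, ha, rfl⟩))⟩
  have hcard := hrk.card_le (elem_closure (T := (W : Set G) ∪ {a}) (by
    rintro x (hx | rfl) y (hy | hy)
    · exact elem_omegaZ.1 x hx y hy
    · rw [Set.mem_singleton_iff.1 hy]; exact (hx.2.2 a ha).symm
    · exact hy.2.2 x ha
    · rw [Set.mem_singleton_iff.1 hy]) (by
    rintro x (hx | rfl)
    exacts [hx.2.1, hap]))
  have hlt1 : Z < W := lt_of_le_not_ge s.omegaTop_le hWZ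
  have hlt2 : W < Subgroup.closure ((W : Set G) ∪ {a}) := SetLike.lt_iff_le_and_exists.2
    ⟨fun x hx => Subgroup.subset_closure (Or.inl hx), a, Subgroup.subset_closure (Or.inr rfl), haW⟩
  have h1 := FusionRankTwo.mul_card_le_of_lt (hG.to_subgroup _) hlt1
  have h2 := (FusionRankTwo.mul_card_le_of_lt (hG.to_subgroup _) hlt2).trans hcard
  have h3 := (Nat.mul_le_mul_left p h1).trans h2
  rw [pow_succ' p 2, pow_two] at h3
  have hZp : Nat.card Z ≤ p :=
    Nat.le_of_mul_le_mul_left (Nat.le_of_mul_le_mul_left h3 hp.out.pos) hp.out.pos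
  have hTp : p ≤ Nat.card T := by
    rw [← Subgroup.relIndex_bot_left]
    exact le_relIndex_of_lt hG fun h => hTne (le_antisymm h bot_le)
  have hTeq : T = Z := Subgroup.eq_of_le_of_card_ge hTZ (hZp.trans hTp)
  intro α hα
  rw [← hTeq]
  refine pres_closure (by rintro _ ⟨x, hx, y, hy, rfl⟩; exact s.comm_mem_E x hy) ?_
  rintro w ⟨x, hx, y, hy, hw⟩
  refine Subgroup.subset_closure ⟨α ⟨x, hx⟩, (α _).2, α ⟨y, hy⟩, (α _).2, ?_⟩
  rw [show w = ⁅(⟨x, hx⟩ : s.E), ⟨y, hy⟩⁆ from Subtype.ext hw.symm, map_commutatorElement]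
  rfl

end Group

variable {Ω : Type*} [Group Ω] {S : Subgroup Ω} [Finite S] {p : ℕ} [hp : Fact p.Prime]
  {F : FusionSystem S} (hp2 : p ≠ 2) (hS : IsPGroup p S) (hF : F.IsSaturated p)
  (hrk : Rank3 p S) (hrk2 : ¬ SectionalPRankLE p 2 S) (hO : F.core = ⊥) (hall : AllNormal F p)

include hp2 hS hF hrk hrk2 hO hall

/-- Two essential subgroups are invariant under `Aut_F(S)`. -/
theorem exists_two_invariant : ∃ n m : NSide F p, n.s.E ≠ m.s.E ∧
    (∀ h ∈ F.autGroup S, ∀ x ∈ n.s.E, h x ∈ n.s.E) ∧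
    (∀ h ∈ F.autGroup S, ∀ x ∈ m.s.E, h x ∈ m.s.E) := by
  set Z := omegaZ p (⊤ : Subgroup S) with hZ
  have hZne : Z ≠ ⊥ := by
    have hne : ¬ (⊤ : Subgroup S) ≤ ⊥ := fun htop => by
      refine hrk2 fun H N _ A _ _ => ?_
      haveI : Subsingleton S := ⟨fun a b => by
        rw [Subgroup.mem_bot.1 (htop (Subgroup.mem_top a)),
          Subgroup.mem_bot.1 (htop (Subgroup.mem_top b))]⟩
      exact (Finite.card_le_one_iff_subsingleton.2 inferInstance).trans (Nat.one_le_pow _ _ hp.out.pos)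
    obtain ⟨z, -, hz1, hzc⟩ := exists_central_mod (M := ⊥) hS (N := (⊤ : Subgroup S))
      Subgroup.normal_top hne
    obtain ⟨y, hy, hyp, hy1⟩ := exists_ord hS (fun h : z = 1 => hz1 (Subgroup.mem_bot.2 h))
    intro h
    refine hy1 (Subgroup.mem_bot.1 (h ▸ ⟨Subgroup.mem_top y, hyp, fun g _ => ?_⟩))
    obtain ⟨i, rfl⟩ := hy
    exact (show Commute g z from
      commutatorElement_eq_one_iff_mul_comm.1 (Subgroup.mem_bot.1 (hzc g))).zpow_right i
  have hZle : ∀ k : NSide F p, Z ≤ k.s.E := fun k => k.s.omegaTop_le.trans omegaZ_le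
  -- some automiser moves the socle of the centre
  obtain ⟨n, hbad⟩ : ∃ n : NSide F p, ¬ ∀ α ∈ n.s.A, Pres α Z := by
    by_contra hcon
    push Not at hcon
    exact false_of_char hp2 hS hF hrk hO hall hZne hZle hcon fun h _ x hx => omegaTop_map hx
  have hgood : ¬ omegaZ p n.s.E ≤ Z := fun h =>
    hbad (n.s.pres_of_central hS h le_rfl fun β _ y hy => omegaTop_map hy)
  have hzcZ : ∀ {B' : Subgroup (MulAut S)} {t : Side p B'} (_ : Core n.s t),
      ∀ x ∈ n.s.E, ∀ y ∈ n.s.E, x * y = y * x := fun {B' t} c => by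
    rcases abelian_or_zc_le c with h | h
    · exact h
    · refine absurd (fun w hw => ?_) hgood
      exact ⟨Subgroup.mem_top w, hw.2.1, fun g _ => c.central w (h ⟨hw.1, hw.2.2⟩) g⟩
  have hW : ∀ m : NSide F p, n.s.E ≠ m.s.E → omegaZ p m.s.E ≤ n.s.E := by
    intro m hne
    by_contra h
    obtain ⟨c⟩ := exists_core hS hp2 hrk hne (SetLike.not_le_iff_exists.1 h)
    exact false_of_two_abelian hp2 hS hF hrk hrk2 hO hall n m hne (hzcZ c) c.abelian
  have hcase : ∀ m : NSide F p, n.s.E ≠ m.s.E →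
      Nonempty (Core m.s n.s) ∨ (omegaZ p n.s.E ≤ m.s.E ∧ omegaZ p m.s.E ≤ Z) := by
    intro m hne
    by_cases hWn : omegaZ p n.s.E ≤ m.s.E
    swap
    · exact Or.inl (exists_core hS hp2 hrk hne.symm (SetLike.not_le_iff_exists.1 hWn))
    refine Or.inr ⟨hWn, ?_⟩
    by_contra hZm
    obtain ⟨α, hα, a, b, haW, hbW, hab⟩ :=
      n.s.exists_noncommute m.s hS hp2 hrk hne (hW m hne) hWn hZm hgood
    have Fr := n.s.isFrame m.s hS hp2 hrk hne (hW m hne) ⟨α, hα, a, b, haW, hbW, hab⟩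
    refine hbad (pres_of_comm n.s hS hrk Fr.comm a.2 haW.2.1 fun ha => hab ?_)
    exact Subtype.ext (ha.2.2 _ (α b).2).symm
  -- it is invariant
  have hinv : ∀ h ∈ F.autGroup S, ∀ x ∈ n.s.E, h x ∈ n.s.E := by
    intro h hh
    obtain ⟨m, hm⟩ := exists_image hp2 hS hF hrk hall n hh
    suffices heq : n.s.E = m.s.E from fun x hx => by rw [heq, hm]; exact ⟨x, hx, rfl⟩
    by_contra hne
    rcases hcase m hne with ⟨⟨c⟩⟩ | ⟨-, hZm⟩
    · refine false_of_two_abelian hp2 hS hF hrk hrk2 hO hall n m hne c.abelian ?_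
      rintro x hx y hy
      rw [hm] at hx hy
      obtain ⟨a, ha, rfl⟩ := hx
      obtain ⟨b, hb, rfl⟩ := hy
      rw [← map_mul, c.abelian a ha b hb, map_mul]
    · refine hgood fun w hw => ?_
      have h1 : h w ∈ omegaZ p m.s.E := by
        refine ⟨hm ▸ ⟨w, hw.1, rfl⟩, by rw [← map_pow, hw.2.1, map_one], fun e he => ?_⟩
        rw [hm] at he
        obtain ⟨v, hv, rfl⟩ := he
        show h v * h w = h w * h v
        rw [← map_mul, hw.2.2 v hv, map_mul]
      have h2 := omegaTop_map (β := h⁻¹) (hZm h1)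
      rwa [MulAut.inv_apply_self] at h2
  by_cases hm : ∃ m : NSide F p, n.s.E ≠ m.s.E ∧ ¬ omegaZ p n.s.E ≤ m.s.E
  · obtain ⟨m, hne, hWm⟩ := hm
    rcases hcase m hne with ⟨⟨c⟩⟩ | ⟨h, -⟩
    · exact ⟨n, m, hne, hinv, invariant_of_core hp2 hS hF c hinv⟩
    · exact absurd h hWm
  push Not at hm
  exfalso
  by_cases hex : ∃ m : NSide F p, n.s.E ≠ m.s.E
  swap
  · push Not at hex
    refine false_of_char hp2 hS hF hrk hO hall (T := n.s.E)
      (fun h => hgood (fun w hw => ?_)) (fun k => (hex k).le)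
      (fun k α hα x _ => by rw [hex k]; exact (α x).2) hinv
    have h1 := omegaZ_le hw
    rw [h, Subgroup.mem_bot] at h1
    rw [h1]
    exact one_mem _
  have hPne : ∀ k : NSide F p, k.P ≠ n.P → n.s.E ≠ k.s.E := fun k hk h => by
    rw [n.hs, k.hs, Subgroup.subgroupOf_inj, inf_eq_left.2 n.ess.1.1, inf_eq_left.2 k.ess.1.1] at h
    exact hk h.symm
  have hBB : ∀ m : NSide F p, stabIn F (m.P.subgroupOf S) ≤ stabIn F (n.P.subgroupOf S) :=
    fun m β hβ => mem_stabIn hβ.1 fun x hx => by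
      rw [← n.hs] at hx ⊢; exact hinv β hβ.1 x hx
  have hBall : ∀ h ∈ F.autGroup S, h ∈ stabIn F (n.P.subgroupOf S) := fun h hh =>
    mem_stabIn hh fun x hx => by rw [← n.hs] at hx ⊢; exact hinv h hh x hx
  have hcen : ∀ m : NSide F p, n.s.E ≠ m.s.E → omegaZ p m.s.E ≤ Z := by
    intro m hne
    rcases hcase m hne with ⟨⟨c⟩⟩ | ⟨-, h⟩
    · obtain ⟨w, hw, hwn⟩ : ∃ w ∈ omegaZ p n.s.E, w ∉ m.s.E :=
        ⟨c.u, ⟨c.u_mem, c.u_pow, fun e he => c.abelian e he _ c.u_mem⟩, c.u_not⟩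
      exact absurd (hm m hne hw) hwn
    · exact h
  -- every other essential subgroup produces a plane
  have hplane : ∀ m : NSide F p, n.s.E ≠ m.s.E → ∃ D : Subgroup S, Plane m.s n.s D := by
    intro m hne
    rcases m.s.noncentral_case n.s hS hp2 hrk hne.symm (hBB m) (hm m hne) (hW m hne) (hcen m hne)
        hgood with ⟨N, hN⟩ | ⟨D, h1, h2, h3, h4, h5, h6, h7, h8⟩
    · exfalso
      have hNn : N ≤ n.s.E := hN.le_omega.trans (hZle n)
      have hNaut : ∀ h ∈ F.autGroup S, ∀ x ∈ N, h x ∈ N := fun h hh x hx =>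
        n.s.apply_mem_of_inv hNn hN.right (hBall h hh) hx
      refine false_of_choice hp2 hS hF hrk hO hN.ne_bot (fun P hP => ?_) hNaut
      by_cases hk : P = n.P
      · exact ⟨n, hk.symm, hNn, hN.right⟩
      · obtain ⟨k, rfl⟩ := exists_nside hp2 hS hF hrk hP (hall P hP)
        exact ⟨k, rfl, hN.le_omega.trans (hZle k), k.s.pres_of_central hS
          (hcen k (hPne k hk)) hN.le_omega fun β hβ => hNaut β hβ.1⟩
    · exact ⟨D, hcen m hne, h1, h2, h3, h4, h5, h6, h7, h8⟩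
  -- the planes agree
  obtain ⟨m₀, hne₀⟩ := hex
  obtain ⟨D, c₀⟩ := hplane m₀ hne₀
  have hDn : D ≤ n.s.E := c₀.le_inf.trans inf_le_right
  have hDinv := c₀.inv_right hS hp2 hrk
  have hDeq : ∀ m : NSide F p, n.s.E ≠ m.s.E → ∀ D', Plane m.s n.s D' → D' = D := by
    intro m hne D' c
    obtain ⟨v, hv, -, hvdec⟩ := c₀.exists_v hS
    obtain ⟨v', hv', -, hvdec'⟩ := c.exists_v hS
    set W := omegaZ p n.s.E
    have hv'n : v' ∈ n.s.E := (c.le_inf hv').2
    have hvn : v ∈ n.s.E := hDn hv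
    have hWc : ∀ w ∈ W, ∀ y ∈ n.s.E, y * w = w * y := fun w hw y hy => hw.2.2 y hy
    have hv'D : v' ∈ D := by
      by_contra hv'D
      set c₂ := ⁅v', v⁆ with hc₂
      have hc₂W : c₂ ∈ W := c₀.comm_mem_W hS v' hv
      have hc₂1 : c₂ ≠ 1 := by
        intro h
        have hvv : Commute v' v := commutatorElement_eq_one_iff_mul_comm.1 h
        refine c₀.false_of_card_four hrk hS (H := Subgroup.closure ((D : Set S) ∪ {v'}))
          (elem_closure ?_ ?_) (SetLike.lt_iff_le_and_exists.2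
            ⟨fun x hx => Subgroup.subset_closure (Or.inl hx), v',
              Subgroup.subset_closure (Or.inr rfl), hv'D⟩)
        · have hcy : ∀ d ∈ D, Commute d v' := fun d hd => by
            obtain ⟨w, hw, i, rfl⟩ := hvdec d hd
            exact (show Commute w v' from (hWc w hw v' hv'n).symm).mul_left (hvv.symm.pow_left i)
          rintro a (ha | rfl) b (hb | hb)
          · exact c₀.elem.1 a ha b hb
          · exact Set.mem_singleton_iff.1 hb ▸ (hcy a ha).eq
          · exact (hcy b hb).eq.symm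
          · rw [Set.mem_singleton_iff.1 hb]
        · rintro a (ha | rfl)
          exacts [c₀.elem.2 a ha, c.elem.2 _ hv']
      set L := Subgroup.zpowers c₂
      set H := Subgroup.closure ((W : Set S) ∪ {v, v'}) with hH
      have hHn : H ≤ n.s.E := (Subgroup.closure_le _).2 (by
        rintro x (hx | rfl | rfl)
        exacts [omegaZ_le hx, hvn, hv'n])
      have hLW : L ≤ W := Subgroup.zpowers_le.2 hc₂W
      have hHc := comm_of_closure (L := L) (T := (W : Set S) ∪ {v, v'})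
        (fun l hl y hy => hWc l (hLW hl) y (hHn hy)) (by
        have h1 : ∀ a ∈ W, ∀ y ∈ n.s.E, ⁅y, a⁆ ∈ L := fun a ha y hy => by
          rw [commutatorElement_eq_one_iff_mul_comm.2 (hWc a ha y hy)]; exact one_mem _
        have h2 : ∀ a ∈ W, ∀ y ∈ n.s.E, ⁅a, y⁆ ∈ L := fun a ha y hy => by
          rw [← comm_swap]; exact L.inv_mem (h1 a ha y hy)
        rintro a (ha | ha | ha) b (hb | hb | hb)
        · exact h1 b hb a (omegaZ_le ha)
        · exact h2 a ha b (hb ▸ hvn)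
        · exact h2 a ha b (hb ▸ hv'n)
        · exact h1 b hb a (ha ▸ hvn)
        · rw [ha, hb, commutatorElement_self]; exact one_mem _
        · rw [ha, hb, ← comm_swap]; exact L.inv_mem (Subgroup.mem_zpowers c₂)
        · exact h1 b hb a (ha ▸ hv'n)
        · rw [ha, hb]; exact Subgroup.mem_zpowers c₂
        · rw [ha, hb, commutatorElement_self]; exact one_mem _)
      refine c₀.no_line hS (hLW.trans omegaZ_le) ((Nat.card_zpowers c₂).trans
        (orderOf_eq_prime hc₂W.2.1 hc₂1)) fun γ hγ y hy => ?_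
      obtain ⟨i, hi⟩ := hy
      simp only at hi
      rw [show y = ⁅(⟨v', hv'n⟩ : n.s.E), ⟨v, hvn⟩⁆ ^ i from
        Subtype.ext (by rw [Subgroup.coe_zpow]; exact hi.symm), map_zpow, map_commutatorElement,
        Subgroup.coe_zpow]
      refine L.zpow_mem ?_ i
      have h1 : ∀ d ∈ D, d ∈ H := fun d hd => by
        obtain ⟨w, hw, j, rfl⟩ := hvdec d hd
        exact H.mul_mem (Subgroup.subset_closure (Or.inl hw))
          (H.pow_mem (Subgroup.subset_closure (Or.inr (Or.inl rfl))) j)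
      have h2 : ∀ d ∈ D', d ∈ H := fun d hd => by
        obtain ⟨w, hw, j, rfl⟩ := hvdec' d hd
        exact H.mul_mem (Subgroup.subset_closure (Or.inl hw))
          (H.pow_mem (Subgroup.subset_closure (Or.inr (Or.inr rfl))) j)
      exact hHc _ (h2 _ (c.inv_right hS hp2 hrk γ hγ ⟨v', hv'n⟩ hv')) _
        (h1 _ (hDinv γ hγ ⟨v, hvn⟩ hv))
    refine Subgroup.eq_of_le_of_card_ge (fun d hd => ?_) (by rw [c.card_D, c₀.card_D])
    obtain ⟨w, hw, i, rfl⟩ := hvdec' d hd
    exact D.mul_mem (c₀.le hw) (D.pow_mem hv'D i)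
  have hD1 : D ≠ ⊥ := by
    intro h
    have h1 := c₀.card_D
    rw [h, Subgroup.card_bot] at h1
    exact absurd h1.symm (Nat.one_lt_pow three_ne_zero hp.out.one_lt).ne'
  refine false_of_choice hp2 hS hF hrk hO hD1 (fun P hP => ?_)
    fun h hh x hx => n.s.apply_mem_of_inv hDn hDinv (hBall h hh) hx
  by_cases hk : P = n.P
  · exact ⟨n, hk.symm, hDn, hDinv⟩
  · obtain ⟨k, rfl⟩ := exists_nside hp2 hS hF hrk hP (hall P hP)
    obtain ⟨D', c⟩ := hplane k (hPne k hk)
    obtain rfl := hDeq k (hPne k hk) D' c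
    exact ⟨k, rfl, c.le_E, c.inv⟩

end CfsgLib.FusionAllNormal
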