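import Cfsg.Agent.FusionAllNormal.Abelian

/-!
# At most one abelian essential subgroup when all are normal
-/

set_option autoImplicit false
set_option linter.style.haveILetI false

namespace CfsgLib.FusionAllNormal

open Cfsg Cfsg.FusionSystem CfsgLib.Fusion CfsgLib.FusionTwoEssentials
open scoped commutatorElement

/-- A nonabelian group of order `p³` has sectional rank at most two. -/
theorem rank_two_of_card {G : Type*} [Group G] [Finite G] {p : ℕ} [hp : Fact p.Prime]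
    (hcard : Nat.card G = p ^ 3) (hne : ¬ ∀ a b : G, a * b = b * a) :
    SectionalPRankLE p 2 G := by
  intro H N _ A hA _
  by_contra hlt
  push Not at hlt
  have hHS := Subgroup.card_le_card_group H
  rw [hcard] at hHS
  have hAle := Subgroup.card_le_card_group A
  have hNc := N.card_eq_card_quotient_mul_card_subgroup
  have hAdvd : Nat.card A ∣ p ^ 3 :=
    (Subgroup.card_subgroup_dvd_card A).trans ((Dvd.intro _ hNc.symm).trans
      (hcard ▸ Subgroup.card_subgroup_dvd_card H))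
  obtain ⟨i, hi, hAi⟩ := (Nat.dvd_prime_pow hp.out).1 hAdvd
  rw [hAi] at hlt
  have hi3 : i = 3 := by
    have := (Nat.pow_lt_pow_iff_right hp.out.one_lt).1 hlt
    omega
  rw [hAi, hi3] at hAle
  have hN1 : Nat.card N ≤ 1 := by
    by_contra hN
    push Not at hN
    have h2 : Nat.card (H ⧸ N) * 2 ≤ Nat.card H := hNc ▸ Nat.mul_le_mul_left _ hN
    have := pow_pos hp.out.pos 3
    omega
  have hN : N = ⊥ := Subgroup.card_eq_one.1 (le_antisymm hN1 Nat.card_pos)
  have hHq : Nat.card (H ⧸ N) = Nat.card H := by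
    rw [hNc, le_antisymm hN1 Nat.card_pos, mul_one]
  have hHtop : H = ⊤ := Subgroup.eq_top_of_card_eq _ (by rw [hcard]; omega)
  have hAtop : A = ⊤ := Subgroup.eq_top_of_card_eq _ (by rw [hAi, hi3]; omega)
  refine hne fun a b => ?_
  have ha : a ∈ H := hHtop ▸ Subgroup.mem_top a
  have hb : b ∈ H := hHtop ▸ Subgroup.mem_top b
  have h1 := congrArg Subtype.val (hA.is_comm.comm
    (⟨QuotientGroup.mk' N ⟨a, ha⟩, hAtop ▸ Subgroup.mem_top _⟩ : A)
    ⟨QuotientGroup.mk' N ⟨b, hb⟩, hAtop ▸ Subgroup.mem_top _⟩)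
  simp only [Subgroup.coe_mul, ← map_mul] at h1
  have h2 := (QuotientGroup.eq (s := N)).1 h1
  rw [hN, Subgroup.mem_bot, inv_mul_eq_one] at h2
  exact congrArg Subtype.val h2

variable {Ω : Type*} [Group Ω] {S : Subgroup Ω} [Finite S] {p : ℕ} [hp : Fact p.Prime]
  {F : FusionSystem S} (hp2 : p ≠ 2) (hS : IsPGroup p S) (hF : F.IsSaturated p)
  (hrk : Rank3 p S) (hrk2 : ¬ SectionalPRankLE p 2 S) (hO : F.core = ⊥) (hall : AllNormal F p)

include hp2 hS hF hrk hrk2 hO hall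

/-- Two abelian essential subgroups are impossible. -/
theorem false_of_two_abelian (n m : NSide F p) (hne : n.s.E ≠ m.s.E)
    (hn : ∀ x ∈ n.s.E, ∀ y ∈ n.s.E, x * y = y * x)
    (hm : ∀ x ∈ m.s.E, ∀ y ∈ m.s.E, x * y = y * x) : False := by
  set Z := Subgroup.center S with hZdef
  have hcenle : ∀ {B : Subgroup (MulAut S)} (k : Side p B), Z ≤ k.E := fun k z hz =>
    k.centralizer_le fun x _ => (Subgroup.mem_center_iff.1 hz x).symm
  have hidxnm : ∀ k q : NSide F p, k.s.E ≠ q.s.E → (k.s.E ⊓ q.s.E).index = p ^ 2 := by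
    intro k q hkq
    rw [← Subgroup.relIndex_mul_index (inf_le_left : k.s.E ⊓ q.s.E ≤ k.s.E),
      k.s.relIndex_inf q.s hS hkq, k.s.index, pow_two]
  have hZeq : n.s.E ⊓ m.s.E = Z := by
    refine le_antisymm (fun x hx => Subgroup.mem_center_iff.2 fun g => ?_)
      (le_inf (hcenle n.s) (hcenle m.s))
    obtain ⟨u, hu, hun⟩ := m.s.exists_mem_not_mem n.s hne.symm
    obtain ⟨i, e, he, rfl⟩ := n.s.exists_pow_mul hun g
    exact ((show Commute u x from hm u hu x hx.2).pow_left i).mul_left (hn e he x hx.1)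
  have hZidx : Z.index = p ^ 2 := hZeq ▸ hidxnm n m hne
  -- every side is abelian and has the centre as a maximal subgroup
  have hside : ∀ k : NSide F p, (Z).relIndex k.s.E = p ∧
      ∀ x ∈ k.s.E, ∀ y ∈ k.s.E, x * y = y * x := by
    intro k
    obtain ⟨q, hkq⟩ : ∃ q : NSide F p, k.s.E ≠ q.s.E := by
      by_cases h : k.s.E = n.s.E
      · exact ⟨m, h ▸ hne⟩
      · exact ⟨n, h⟩
    have heq : Z = k.s.E ⊓ q.s.E := by
      refine Subgroup.eq_of_le_of_card_ge (le_inf (hcenle k.s) (hcenle q.s)) ?_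
      have h1 := (k.s.E ⊓ q.s.E).card_mul_index
      have h2 := Z.card_mul_index
      rw [hidxnm k q hkq] at h1
      rw [hZidx] at h2
      exact (Nat.eq_of_mul_eq_mul_right (pow_pos hp.out.pos 2) (h1.trans h2.symm)).le
    refine ⟨heq ▸ k.s.relIndex_inf q.s hS hkq, ?_⟩
    obtain ⟨x, hx, hxq⟩ := k.s.exists_mem_not_mem q.s hkq
    intro a ha b hb
    obtain ⟨i, d, hd, rfl⟩ := k.s.exists_form q.s hx hxq ha
    obtain ⟨j, d', hd', rfl⟩ := k.s.exists_form q.s hx hxq hb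
    rw [← heq] at hd hd'
    have h1 : Commute (x ^ i) d' := Subgroup.mem_center_iff.1 hd' _
    have h2 : ∀ g : S, Commute d g := fun g => (Subgroup.mem_center_iff.1 hd g).symm
    exact ((((Commute.refl x).pow_pow i j).mul_right h1).mul_left
      ((h2 _).mul_right (h2 _))).eq
  -- the commutator subgroup
  obtain ⟨x, hx, hxm⟩ := n.s.exists_mem_not_mem m.s hne
  obtain ⟨u, hu, hun⟩ := m.s.exists_mem_not_mem n.s hne.symm
  set f := ⁅u, x⁆ with hf
  have hfZ : f ∈ Z := hZeq ▸ n.s.comm_mem_inf m.s hS u hx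
  have hfp : f ^ p = 1 := by
    have key : ∀ k : ℕ, ⁅u, x ^ k⁆ = f ^ k := by
      intro k
      induction k with
      | zero => simp
      | succ k ih =>
        rw [pow_succ, comm_mul_right, ih, ← hf, Subgroup.mem_center_iff.1 hfZ (x ^ k),
          mul_inv_cancel_right, pow_succ]
    rw [← key p]
    exact commutatorElement_eq_one_iff_mul_comm.2 (Subgroup.mem_center_iff.1
      (by rw [← hZdef, ← hZeq]; exact n.s.pow_mem_inf m.s hS x) u)
  have hf1 : f ≠ 1 := fun h => by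
    have hxZ : x ∈ Z := mem_center_of_commute n.s hn hun hx
      (commutatorElement_eq_one_iff_mul_comm.1 h)
    exact hxm (hcenle m.s hxZ)
  set L := Subgroup.zpowers f with hL
  have hLZ : L ≤ Z := Subgroup.zpowers_le.2 hfZ
  have hgen : Subgroup.closure ((Z : Set S) ∪ {u, x}) = ⊤ := by
    refine eq_top_iff.2 fun g _ => ?_
    obtain ⟨i, e, he, rfl⟩ := n.s.exists_pow_mul hun g
    obtain ⟨j, d, hd, rfl⟩ := n.s.exists_form m.s hx hxm he
    rw [hZeq] at hd
    set H := Subgroup.closure ((Z : Set S) ∪ {u, x})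
    have hu' : u ∈ H := Subgroup.subset_closure (by simp)
    have hx' : x ∈ H := Subgroup.subset_closure (by simp)
    have hd' : d ∈ H := Subgroup.subset_closure (Or.inl hd)
    exact H.mul_mem (H.pow_mem hu' i) (H.mul_mem (H.pow_mem hx' j) hd')
  have hcomm : ∀ g h : S, ⁅g, h⁆ ∈ L := by
    have h1 : ∀ a b : S, Commute a b → ⁅a, b⁆ ∈ L := fun a b h => by
      rw [commutatorElement_eq_one_iff_mul_comm.2 h]; exact one_mem _
    intro g h
    refine comm_of_closure (L := L) (fun l hl a _ => Subgroup.mem_center_iff.1 (hLZ hl) a) ?_ g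
      (hgen ▸ Subgroup.mem_top g) h (hgen ▸ Subgroup.mem_top h)
    rintro a (ha | ha | ha) b hb
    · exact h1 a b (Subgroup.mem_center_iff.1 ha b).symm
    · rw [ha]
      rcases hb with hb | hb | hb
      · exact h1 _ b (Subgroup.mem_center_iff.1 hb _)
      · rw [hb]; exact h1 _ _ rfl
      · rw [hb]; exact Subgroup.mem_zpowers f
    · rw [ha]
      rcases hb with hb | hb | hb
      · exact h1 _ b (Subgroup.mem_center_iff.1 hb _)
      · rw [hb, ← comm_swap]; exact L.inv_mem (Subgroup.mem_zpowers f)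
      · rw [hb]; exact h1 _ _ rfl
  have hLinv : ∀ h ∈ F.autGroup S, ∀ y ∈ L, h y ∈ L := by
    rintro h - y ⟨i, rfl⟩
    show h (f ^ i) ∈ L
    rw [map_zpow, hf, map_commutatorElement]
    exact L.zpow_mem (hcomm _ _) i
  have hLne : ∀ {T : Subgroup S}, f ∉ T → ∀ y ∈ L, y ∈ T → y = 1 := fun {T} hfT y hy hyT => by
    obtain ⟨i, hi⟩ := mem_powers_iff_mem_zpowers.2 hy
    simp only at hi
    by_contra hy1
    refine hfT (Subgroup.zpowers_le.2 hyT ?_)
    rw [← hi, mem_zpowers_pow_iff, orderOf_eq_prime hfp hf1]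
    exact (hp.out.coprime_iff_not_dvd.2 fun ⟨c, hc⟩ =>
      hy1 (by rw [← hi, hc, pow_mul, hfp, one_pow])).symm
  -- data attached to an automorphism moving the centre
  have hmov : ∀ k : NSide F p, ∃ α ∈ k.s.A, ∃ d : k.s.E, (d : S) ∈ Z ∧ (α d : S) ∉ Z :=
    fun k => exists_moving k.s hS (hside k).2 (hcenle k.s) (hside k).1
      fun g h => hLZ (hcomm g h)
  have hline : ∀ (k : NSide F p) (α : MulAut k.s.E), α ∈ k.s.A → ∀ d : k.s.E, (d : S) ∈ Z →
      (α d : S) ∉ Z →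
      (∀ y ∈ Z, ∃ c ∈ lineOf k.s α, ∃ j : ℕ, y = c * f ^ j) ∧ f ∉ lineOf k.s α ∧
      ∃ β ∈ F.autGroup S, (∀ c ∈ lineOf k.s α, β c = c) ∧ β f = f⁻¹ := by
    intro k α hα d hd hαd
    obtain ⟨h1, h2, β, hβ, h3, h4⟩ := exists_line k.s hS hp2 (hside k).2 (hcenle k.s) (hside k).1
      hf1 hfp hfZ hcomm hα hd hαd
    refine ⟨h1, h2, β, hβ.1, h3, ?_⟩
    exact eq_inv_of_mul_eq_one_right
      (hLne h2 _ (L.mul_mem (Subgroup.mem_zpowers f) (hLinv β hβ.1 _ (Subgroup.mem_zpowers f))) h4)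
  -- the lines are invariant under all automorphisms of `S`
  have hlinv : ∀ (k : NSide F p) (α : MulAut k.s.E), α ∈ k.s.A → ∀ d : k.s.E, (d : S) ∈ Z →
      (α d : S) ∉ Z → ∀ h ∈ F.autGroup S, ∀ c ∈ lineOf k.s α, h c ∈ lineOf k.s α := by
    intro k α hα d hd hαd
    obtain ⟨hdec, hfC, β, hβ, hβC, hβf⟩ := hline k α hα d hd hαd
    set C := lineOf k.s α
    intro h hh c hc
    have hCZ : C ≤ Z := fun y hy => (mem_lineOf.1 hy).1
    have hZinv : ∀ h ∈ F.autGroup S, ∀ y ∈ Z, h y ∈ Z := fun h _ y hy =>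
      Subgroup.mem_center_iff.2 fun g => by
        rw [← h.apply_symm_apply g, ← map_mul, ← map_mul, Subgroup.mem_center_iff.1 hy]
    set κ := (h * β)⁻¹ * (β * h) with hκ
    have hκA : κ ∈ F.autGroup S := mul_mem (inv_mem (mul_mem hh hβ)) (mul_mem hβ hh)
    have hκv : ∀ y, (h * β) (κ y) = β (h y) := fun y => by
      rw [hκ, ← MulAut.mul_apply, mul_inv_cancel_left]; rfl
    have hκf : ∀ y ∈ L, κ y = y := by
      rintro y ⟨i, rfl⟩
      show κ (f ^ i) = f ^ i
      have hfi : ∀ z ∈ L, β z = z⁻¹ := by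
        rintro z ⟨j, rfl⟩
        show β (f ^ j) = (f ^ j)⁻¹
        rw [map_zpow, hβf, inv_zpow]
      refine (h * β).injective ?_
      rw [hκv, MulAut.mul_apply, hfi _ (hLinv h hh _ (Subgroup.zpow_mem_zpowers f i)),
        hfi _ (Subgroup.zpow_mem_zpowers f i), map_inv]
    obtain ⟨c₁, hc₁, j, hj⟩ := hdec (h c) (hZinv h hh c (hCZ hc))
    have hβhc : β (h c) = h c * ((f ^ j) ^ 2)⁻¹ := by
      rw [hj, map_mul, hβC _ hc₁, map_pow, hβf, inv_pow, pow_two, mul_inv_rev]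
      group
    have hκc : c⁻¹ * κ c = (h * β)⁻¹ ((f ^ j) ^ 2)⁻¹ := by
      rw [inv_mul_eq_iff_eq_mul]
      refine (h * β).injective ?_
      rw [map_mul, hκv, MulAut.apply_inv_self, hβhc, MulAut.mul_apply, hβC c hc]
    have hd' : ∀ y ∈ Z, y⁻¹ * κ y ∈ L := by
      intro y hy
      obtain ⟨c₂, hc₂, i, rfl⟩ := hdec y hy
      rw [map_mul, hκf _ (L.pow_mem (Subgroup.mem_zpowers f) i), mul_inv_rev,
        mul_assoc, ← mul_assoc c₂⁻¹]
      refine L.mul_mem (L.inv_mem (L.pow_mem (Subgroup.mem_zpowers f) i))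
        (L.mul_mem ?_ (L.pow_mem (Subgroup.mem_zpowers f) i))
      obtain ⟨c₃, hc₃, l, hl⟩ := hdec (h c₂) (hZinv h hh c₂ (hCZ hc₂))
      have h1 : c₂⁻¹ * κ c₂ = (h * β)⁻¹ ((f ^ l) ^ 2)⁻¹ := by
        rw [inv_mul_eq_iff_eq_mul]
        refine (h * β).injective ?_
        rw [map_mul, hκv, MulAut.apply_inv_self, MulAut.mul_apply, hβC c₂ hc₂]
        rw [hl, map_mul, hβC _ hc₃, map_pow, hβf, inv_pow, pow_two, mul_inv_rev]
        group
      rw [h1]
      exact hLinv _ (inv_mem (mul_mem hh hβ)) _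
        (L.inv_mem (L.pow_mem (L.pow_mem (Subgroup.mem_zpowers f) l) 2))
    have htriv := section_trivial hS hF (M := Z) (N := ⊥) hZinv
      (fun h _ y hy => by rw [Subgroup.mem_bot.1 hy, map_one]; exact one_mem _)
      (fun g y hy => Subgroup.mem_bot.2
        (commutatorElement_eq_one_iff_mul_comm.2 (Subgroup.mem_center_iff.1 hy g)))
      hκA (Y := L) hd' (fun y hy => Subgroup.mem_bot.2 (by rw [hκf y hy, inv_mul_cancel]))
      (fun y hy => Subgroup.mem_bot.2 (by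
        obtain ⟨i, rfl⟩ := hy
        show (f ^ i) ^ p = 1
        rw [← zpow_natCast (f ^ i), ← zpow_mul, mul_comm, zpow_mul, zpow_natCast, hfp, one_zpow]))
    have h1 := Subgroup.mem_bot.1 (htriv c (hCZ hc))
    rw [hκc] at h1
    have h2 : (f ^ j) ^ 2 = 1 := by
      have h3 := congrArg (h * β) h1
      rwa [MulAut.apply_inv_self, map_one, inv_eq_one] at h3
    have h4 : f ^ j = 1 := Subgroup.mem_bot.1 (mem_of_sq_mem hS hp2 (M := ⊥)
      (Subgroup.mem_bot.2 (by rw [← pow_two]; exact h2)))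
    rw [hj, h4, mul_one]
    exact hc₁
  -- they all agree
  obtain ⟨α₀, hα₀, d₀, hd₀, hαd₀⟩ := hmov n
  set C := lineOf n.s α₀ with hC
  obtain ⟨hdecC, hfC, -⟩ := hline n α₀ hα₀ d₀ hd₀ hαd₀
  have hCZ : C ≤ Z := fun y hy => (mem_lineOf.1 hy).1
  have huniq : ∀ (k : NSide F p) (α : MulAut k.s.E), α ∈ k.s.A → ∀ d : k.s.E, (d : S) ∈ Z →
      (α d : S) ∉ Z → lineOf k.s α = C := by
    intro k α hα d hd hαd
    obtain ⟨hdec', hfC', β, hβ, hβC, hβf⟩ := hline k α hα d hd hαd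
    have hle : lineOf k.s α ≤ C := by
      intro c' hc'
      obtain ⟨c, hc, j, hj⟩ := hdecC c' (mem_lineOf.1 hc').1
      have h1 := hlinv n α₀ hα₀ d₀ hd₀ hαd₀ β hβ c hc
      have h2 : β c * (f ^ j)⁻¹ = c * f ^ j := by
        rw [← inv_pow, ← hβf, ← map_pow, ← map_mul, ← hj, hβC c' hc']
      have h3 : f ^ j * f ^ j ∈ C := by
        rw [mul_inv_eq_iff_eq_mul] at h2
        have h5 := C.mul_mem (C.inv_mem hc) h1
        rw [h2, mul_assoc, inv_mul_cancel_left] at h5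
        exact h5
      exact hj ▸ C.mul_mem hc (mem_of_sq_mem hS hp2 h3)
    refine le_antisymm hle fun c hc => ?_
    obtain ⟨c', hc', j, rfl⟩ := hdec' c (hCZ hc)
    have h1 : f ^ j ∈ C := (C.mul_mem_cancel_left (hle hc')).1 hc
    rw [hLne hfC _ (L.pow_mem (Subgroup.mem_zpowers f) j) h1, mul_one]
    exact hc'
  -- the line is invariant under all automisers
  refine false_of_char hp2 hS hF hrk hO hall (T := C) ?_ (fun k => hCZ.trans (hcenle k.s)) ?_
    fun h hh c hc => hlinv n α₀ hα₀ d₀ hd₀ hαd₀ h hh c hc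
  · intro hbot
    have hZle : Z ≤ L := fun y hy => by
      obtain ⟨c, hc, j, rfl⟩ := hdecC y hy
      rw [← hC, hbot, Subgroup.mem_bot] at hc
      rw [hc, one_mul]
      exact L.pow_mem (Subgroup.mem_zpowers f) j
    refine hrk2 (rank_two_of_card ?_ fun h => hf1 (commutatorElement_eq_one_iff_mul_comm.2 (h u x)))
    have h1 := Z.card_mul_index
    rw [hZidx, show Z = L from le_antisymm hZle hLZ, hL, Nat.card_zpowers,
      orderOf_eq_prime hfp hf1] at h1
    rw [← h1]; ring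
  · intro k
    obtain ⟨α₁, hα₁, d₁, hd₁, hαd₁⟩ := hmov k
    have hk := huniq k α₁ hα₁ d₁ hd₁ hαd₁
    have hpre : ∀ α ∈ k.s.A, ∀ y : k.s.E, (y : S) ∈ C → (α y : S) ∈ Z := by
      intro α hα y hy
      by_cases h : ∃ d : k.s.E, (d : S) ∈ Z ∧ (α⁻¹ d : S) ∉ Z
      · obtain ⟨d, hd, hαd⟩ := h
        rw [← huniq k α⁻¹ (k.s.A.inv_mem hα) d hd hαd] at hy
        obtain ⟨-, hy', h'⟩ := mem_lineOf.1 hy
        rwa [inv_inv] at h'
      · push Not at h
        have : ∀ w : k.s.E, (w : S) ∈ Z → (α w : S) ∈ Z := fun w hw => by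
          have := (Pres.inv (γ := α⁻¹) (fun z hz => h z hz)) w hw
          rwa [inv_inv] at this
        exact this y (hCZ hy)
    intro α hα y hy
    rw [← hk] at hy ⊢
    refine mem_lineOf.2 ⟨hpre α hα y (hk ▸ hy), (α y).2, ?_⟩
    have h1 := hpre (α₁⁻¹ * α) (k.s.A.mul_mem (k.s.A.inv_mem hα₁) hα) y (hk ▸ hy)
    rwa [MulAut.mul_apply] at h1

end CfsgLib.FusionAllNormal
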